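import Cfsg.Agent.H591.Cliff
import Cfsg.Agent.Blocks.Basic
import Cfsg.Agent.Blocks.Covering
import Cfsg.Agent.Blocks.Fong
import Cfsg.Agent.Blocks.Osima
import Cfsg.Agent.Blocks.Elementary
import Cfsg.Agent.S0913
import Cfsg.Agent.S0933
set_option linter.all false

/-!
# The Fong–Reynolds correspondence: preliminaries

`N` normal in the finite group `G`, `b` a block of `N` with stabilizer `T ≥ N` in `G`.

* `over_conj`: the constituents on `N` of an irreducible character of `T` are `T`-conjugate.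
* `sum_blockCoeff_ind`: if `ψ ∈ Irr(T)` lies over `b` and `χ = Ind ψ`, then
  `∑ n, b(n) χ(s n) = ψ(s)` for `s ∈ T`, `b(n)` the coefficients of the block idempotent of `b`.
* `sameBlock_of_ind`: if `ψ₁, ψ₂ ∈ Irr(T)` lie over `b` and their induced characters lie in the
  same block then `ψ₁`, `ψ₂` lie in the same block.
-/

set_option autoImplicit false

open Cfsg
open scoped ComplexConjugate

namespace Cfsg.Agent.H591.Reynolds

open Cfsg.Agent.Characters.Core Cfsg.Agent.OddOrderCharacters.IndRes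
  Cfsg.Agent.OddOrderCharacters.NormalInduced Cfsg.Agent.OddOrderCharacters
open Cfsg.Agent.OddOrderCharacters.PF9.CliffGen (inertia mem_inertia le_inertia resTo resTo_apply
  down classInner_down indFun_down resTo_res)
open Cfsg.Agent.Blocks.Covering (conjIrr conjIrr_apply conjIrr_conjIrr conjIrr_one conjIrr_at_one
  sameBlock_conjIrr)

universe u

/-! ### Weighted sums over a subgroup -/

theorem sum_weight_mul_one {H N' : Type*} [Group H] [Group N'] [Fintype N'] {χ : H → ℂ}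
    (hχ : IsIrrCharacter H χ) (ι : N' →* H) (f : N' → ℂ) (σ : H → Equiv.Perm N')
    (hσ : ∀ h n, ι (σ h n) = h * ι n * h⁻¹) (hf : ∀ h n, f (σ h n) = f n) (x : H) :
    (∑ n, f n * χ (x * ι n)) * χ 1 = χ x * ∑ n, f n * χ (ι n) := by
  obtain ⟨k, ρ, hρ, rfl⟩ := hχ
  set P : Module.End ℂ (Fin k → ℂ) := ∑ n : N', f n • ρ (ι n) with hP
  have hcomm : ∀ g, P * ρ g = ρ g * P := by
    intro g
    rw [hP, Finset.sum_mul, Finset.mul_sum]
    refine Fintype.sum_equiv (σ g⁻¹) _ _ fun n => ?_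
    rw [hf, smul_mul_assoc, mul_smul_comm, hσ, ← map_mul, ← map_mul]
    congr 2
    group
  have hsc := Cfsg.Agent.Characters.Central.eq_trace_smul_of_comm ρ hρ P hcomm
  have h1 : ρ.character 1 ≠ 0 := Cfsg.Agent.Characters.Central.char_one_ne_zero ρ hρ
  have htr : LinearMap.trace ℂ (Fin k → ℂ) P = ∑ n : N', f n * ρ.character (ι n) := by
    rw [hP, map_sum]
    refine Finset.sum_congr rfl fun n _ => ?_
    rw [map_smul]
    rfl
  have h2 : LinearMap.trace ℂ (Fin k → ℂ) (ρ x * P) = ∑ n : N', f n * ρ.character (x * ι n) := by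
    rw [hP, Finset.mul_sum, map_sum]
    refine Finset.sum_congr rfl fun m _ => ?_
    rw [mul_smul_comm, map_smul, ← map_mul]
    rfl
  rw [← h2, ← htr]
  conv_lhs => rw [hsc]
  rw [mul_smul_comm, mul_one, map_smul, smul_eq_mul]
  have h3 : LinearMap.trace ℂ (Fin k → ℂ) (ρ x) = ρ.character x := rfl
  rw [h3]
  field_simp

/-! ### Conjugation -/

section conjugation

variable {G : Type u} [Group G] {N T : Subgroup G} [hN : N.Normal]

theorem conjNormal_eq (g : G) (n : N) :
    (MulAut.conjNormal g : MulAut N) n = ⟨g * n * g⁻¹, hN.conj_mem n n.2 g⟩ := by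
  apply Subtype.ext
  rw [MulAut.conjNormal_apply]

theorem conjFn_eq_conjIrr (g : G) (θ : IrrCharacter N) :
    conjFn N (θ : N → ℂ) g = (conjIrr N g θ : N → ℂ) := by
  funext n
  rw [conjIrr_apply, conjNormal_eq]
  rfl

/-- The stabilizer condition of the statements S4435, S4436. -/
def IsStab (b : Set (IrrCharacter N)) (T : Subgroup G) : Prop :=
  ∀ g : G, g ∈ T ↔ ∀ θ ∈ b, ∀ θ' : IrrCharacter N,
    (∀ n : N, (θ' : N → ℂ) n = (θ : N → ℂ) ⟨g * n * g⁻¹, hN.conj_mem n n.2 g⟩) → θ' ∈ b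

theorem IsStab.mem_iff {b : Set (IrrCharacter N)} (h : IsStab b T) (g : G) :
    g ∈ T ↔ ∀ θ ∈ b, conjIrr N g θ ∈ b := by
  rw [h g]
  constructor
  · intro h1 θ hθ
    refine h1 θ hθ _ fun n => ?_
    rw [conjIrr_apply, conjNormal_eq]
  · intro h1 θ hθ θ' hθ'
    have : θ' = conjIrr N g θ := by
      apply Subtype.ext
      funext n
      rw [hθ', conjIrr_apply, conjNormal_eq]
    rw [this]
    exact h1 θ hθ

theorem IsStab.mem_of_mem {M : Ideal AlgInt} [M.IsPrime] {b : Set (IrrCharacter N)}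
    (hb : IsPBlock M b) (h : IsStab b T) {g : G} {θ : IrrCharacter N} (hθ : θ ∈ b)
    (hgθ : conjIrr N g θ ∈ b) : g ∈ T := by
  rw [h.mem_iff]
  intro θ' hθ'
  exact Blocks.Basic.isPBlock_mem_of_sameBlock hb hgθ
    (sameBlock_conjIrr N g (Blocks.Basic.isPBlock_sameBlock hb hθ hθ'))

theorem IsStab.inertia_le {M : Ideal AlgInt} [M.IsPrime] {b : Set (IrrCharacter N)}
    (hb : IsPBlock M b) (h : IsStab b T) {θ : IrrCharacter N} (hθ : θ ∈ b) (g : G)
    (hg : conjFn N (θ : N → ℂ) g = θ) : g ∈ T := by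
  refine h.mem_of_mem hb hθ ?_
  have : conjIrr N g θ = θ := Subtype.ext (by rw [← conjFn_eq_conjIrr, hg])
  rw [this]
  exact hθ

theorem IsStab.le {M : Ideal AlgInt} [M.IsPrime] {b : Set (IrrCharacter N)}
    (hb : IsPBlock M b) (h : IsStab b T) : N ≤ T := by
  obtain ⟨θ, hθ⟩ := Blocks.Basic.isPBlock_nonempty hb
  intro n hn
  exact h.inertia_le hb hθ n (le_inertia (isIrr_isClassFunction θ.2) hn)

/-- The coefficients of the block idempotent of `b` are `T`-invariant. -/
theorem IsStab.blockCoeff_conj [Finite G] {b : Set (IrrCharacter N)} (h : IsStab b T) {g : G}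
    (hg : g ∈ T) (n : N) : blockCoeff b (MulAut.conjNormal g n) = blockCoeff b n := by
  classical
  have := finite_irr (G := N)
  have := Fintype.ofFinite (IrrCharacter N)
  rw [Blocks.Fong.blockCoeff_eq_sum, Blocks.Fong.blockCoeff_eq_sum]
  congr 1
  refine Finset.sum_bij' (fun ψ _ => conjIrr N g ψ) (fun ψ _ => conjIrr N g⁻¹ ψ) ?_ ?_ ?_ ?_ ?_
  · intro ψ hψ
    rw [Finset.mem_filter] at hψ ⊢
    exact ⟨Finset.mem_univ _, (h.mem_iff g).1 hg ψ hψ.2⟩
  · intro ψ hψ
    rw [Finset.mem_filter] at hψ ⊢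
    exact ⟨Finset.mem_univ _, (h.mem_iff g⁻¹).1 (T.inv_mem hg) ψ hψ.2⟩
  · intro ψ _
    rw [conjIrr_conjIrr, mul_inv_cancel, conjIrr_one]
  · intro ψ _
    rw [conjIrr_conjIrr, inv_mul_cancel, conjIrr_one]
  · intro ψ _
    rw [conjIrr_at_one, conjIrr_apply]

end conjugation

/-! ### Constituents -/

section constituents

variable {G : Type u} [Group G] [Fintype G] {N T : Subgroup G} [hN : N.Normal] [Fintype N]
  [Fintype T]

omit [Fintype T] in
/-- Constituents of constituents. -/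
theorem over_trans (hNT : N ≤ T) [Fintype T] {χ : G → ℂ} (hχ : IsCharacter G χ) {ψ : T → ℂ}
    (hψ : IsIrrCharacter T ψ) {θ : N → ℂ} (hθ : IsIrrCharacter N θ)
    (h1 : classInner (res T χ) ψ ≠ 0) (h2 : classInner (resTo hNT ψ) θ ≠ 0) :
    classInner (res N χ) θ ≠ 0 := by
  have h3 := OddOrderCharacters.Clifford.isCharacter_sub_irr (isCharacter_res T hχ) hψ h1
  have h4 := PF9.CliffGen.isCharacter_resTo hNT h3
  have h5 : res N χ = resTo hNT (res T χ - ψ) + resTo hNT ψ := by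
    funext n
    show χ n = (χ n - ψ ⟨n, hNT n.2⟩) + ψ ⟨n, hNT n.2⟩
    ring
  obtain ⟨k, hk⟩ := classInner_isNat h4 (isIrr_isCharacter hθ)
  obtain ⟨l, hl⟩ := classInner_isNat (PF9.CliffGen.isCharacter_resTo hNT (isIrr_isCharacter hψ))
    (isIrr_isCharacter hθ)
  rw [h5, classInner_add_left, hk, hl]
  rw [hl] at h2
  intro h0
  have h6 : k + l = 0 := by exact_mod_cast h0
  apply h2
  have : l = 0 := by omega
  rw [this, Nat.cast_zero]

/-- The multiplicity of `θ` in `ψ_N` is invariant under conjugation by elements of `T`. -/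
theorem classInner_conjIrr (hNT : N ≤ T) {ψ : T → ℂ} (hψ : IsClassFunction T ψ) {g : G}
    (hg : g ∈ T) (θ : IrrCharacter N) :
    classInner (resTo hNT ψ) (conjIrr N g θ : N → ℂ) = classInner (resTo hNT ψ) (θ : N → ℂ) := by
  rw [classInner_def, classInner_def]
  congr 1
  refine Fintype.sum_equiv (MulAut.conjNormal g : N ≃* N).toEquiv _ _ fun n => ?_
  rw [conjIrr_apply]
  have h1 : resTo hNT ψ ((MulAut.conjNormal g : N ≃* N).toEquiv n) = resTo hNT ψ n := by
    have h2 := hψ ⟨n, hNT n.2⟩ ⟨g, hg⟩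
    rw [resTo_apply, resTo_apply, ← h2]
    congr 1
  rw [h1]
  rfl

/-- The multiplicity of `θ` in `χ_N` is invariant under conjugation. -/
theorem classInner_res_conjIrr {χ : G → ℂ} (hχ : IsClassFunction G χ) (g : G)
    (θ : IrrCharacter N) :
    classInner (res N χ) (conjIrr N g θ : N → ℂ) = classInner (res N χ) (θ : N → ℂ) := by
  rw [classInner_def, classInner_def]
  congr 1
  refine Fintype.sum_equiv (MulAut.conjNormal g : N ≃* N).toEquiv _ _ fun n => ?_
  rw [conjIrr_apply]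
  have h1 : res N χ ((MulAut.conjNormal g : N ≃* N).toEquiv n) = res N χ n := by
    rw [res_apply, res_apply, ← hχ n g]
    congr 1
  rw [h1]
  rfl

/-- The constituents on `N` of an irreducible character of `T` are `T`-conjugate. -/
theorem over_conj (hNT : N ≤ T) {ψ : T → ℂ} (hψ : IsIrrCharacter T ψ) {θ θ' : IrrCharacter N}
    (h : classInner (resTo hNT ψ) (θ : N → ℂ) ≠ 0)
    (h' : classInner (resTo hNT ψ) (θ' : N → ℂ) ≠ 0) : ∃ g ∈ T, θ' = conjIrr N g θ := by
  classical
  have : Fintype (N.subgroupOf T) := Fintype.ofFinite _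
  obtain ⟨g, hg⟩ := Cfsg.Agent.Characters.Clifford.exists_conj_of_constituents (N.subgroupOf T) hψ
    (Cliff.isIrr_down hNT θ.2) (Cliff.isIrr_down hNT θ'.2)
    (by
      have := Cliff.classInner_down_res hNT ψ (θ : N → ℂ)
      rw [← this] at h
      exact h)
    (by
      have := Cliff.classInner_down_res hNT ψ (θ' : N → ℂ)
      rw [← this] at h'
      exact h')
  refine ⟨g, g.2, Subtype.ext ?_⟩
  funext n
  have h1 := congrFun hg ⟨⟨n, hNT n.2⟩, Subgroup.mem_subgroupOf.mpr n.2⟩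
  rw [conjIrr_apply, conjNormal_eq]
  have h2 : down N T (θ' : N → ℂ) ⟨⟨n, hNT n.2⟩, Subgroup.mem_subgroupOf.mpr n.2⟩ =
    (θ' : N → ℂ) n := rfl
  rw [← h2, h1]
  show (θ : N → ℂ) _ = _
  congr 1

theorem exists_over (hNT : N ≤ T) {ψ : T → ℂ} (hψ : IsIrrCharacter T ψ) :
    ∃ θ : IrrCharacter N, classInner (resTo hNT ψ) (θ : N → ℂ) ≠ 0 := by
  have h0 : resTo hNT ψ ≠ 0 := by
    intro h
    have := congrFun h 1
    exact isIrr_apply_one_ne_zero hψ this
  obtain ⟨θ, hθ, h1⟩ := PF4Type.exists_irr_constituent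
    (PF9.CliffGen.isCharacter_resTo hNT (isIrr_isCharacter hψ)) h0
  exact ⟨⟨θ, hθ⟩, h1⟩

/-- The sum of the block idempotent of `b` against a character of `T`. -/
theorem sum_blockCoeff_resTo (hNT : N ≤ T) (b : Set (IrrCharacter N)) {ψ : T → ℂ}
    (hψ : IsIrrCharacter T ψ) :
    ((∀ θ : IrrCharacter N, classInner (resTo hNT ψ) (θ : N → ℂ) ≠ 0 → θ ∈ b) →
      ∑ n : N, blockCoeff b n * ψ ⟨n, hNT n.2⟩ = ψ 1) ∧
    ((∀ θ : IrrCharacter N, classInner (resTo hNT ψ) (θ : N → ℂ) ≠ 0 → θ ∉ b) →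
      ∑ n : N, blockCoeff b n * ψ ⟨n, hNT n.2⟩ = 0) := by
  classical
  have := finite_irr (G := N)
  have := Fintype.ofFinite (IrrCharacter N)
  obtain ⟨m, hm⟩ := isCharacter_iff.1 (PF9.CliffGen.isCharacter_resTo hNT (isIrr_isCharacter hψ))
  have hm' : ∀ θ : IrrCharacter N, classInner (resTo hNT ψ) (θ : N → ℂ) = m θ := by
    intro θ
    rw [hm, classInner_sum_nsmul_irr]
  have hval : ∀ n : N, ψ ⟨n, hNT n.2⟩ = ∑ θ : IrrCharacter N, (m θ : ℂ) * (θ : N → ℂ) n := by
    intro n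
    have := congrFun hm n
    rw [resTo_apply, Finset.sum_apply] at this
    rw [this]
    exact Finset.sum_congr rfl fun θ _ => by rw [Pi.smul_apply, nsmul_eq_mul]
  have hsum : ∑ n : N, blockCoeff b n * ψ ⟨n, hNT n.2⟩ =
      ∑ θ : IrrCharacter N, (m θ : ℂ) * if θ ∈ b then (θ : N → ℂ) 1 else 0 := by
    calc ∑ n : N, blockCoeff b n * ψ ⟨n, hNT n.2⟩
        = ∑ n : N, ∑ θ : IrrCharacter N, (m θ : ℂ) * (blockCoeff b n * (θ : N → ℂ) n) := by
          refine Finset.sum_congr rfl fun n _ => ?_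
          rw [hval, Finset.mul_sum]
          exact Finset.sum_congr rfl fun θ _ => by ring
      _ = ∑ θ : IrrCharacter N, (m θ : ℂ) * ∑ n : N, blockCoeff b n * (θ : N → ℂ) n := by
          rw [Finset.sum_comm]
          exact Finset.sum_congr rfl fun θ _ => by rw [Finset.mul_sum]
      _ = _ := by
          refine Finset.sum_congr rfl fun θ _ => ?_
          rw [Blocks.Fong.sum_blockCoeff_mul]
  constructor
  · intro h
    rw [hsum]
    have h1 : ψ 1 = ∑ θ : IrrCharacter N, (m θ : ℂ) * (θ : N → ℂ) 1 := by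
      have := hval 1
      rw [← this]
      rfl
    rw [h1]
    refine Finset.sum_congr rfl fun θ _ => ?_
    by_cases h0 : m θ = 0
    · rw [h0, Nat.cast_zero, zero_mul, zero_mul]
    · rw [if_pos (h θ (by rw [hm']; exact_mod_cast h0))]
  · intro h
    rw [hsum]
    refine Finset.sum_eq_zero fun θ _ => ?_
    by_cases h0 : m θ = 0
    · rw [h0, Nat.cast_zero, zero_mul]
    · rw [if_neg (h θ (by rw [hm']; exact_mod_cast h0)), mul_zero]

/-- The twisted version of `sum_blockCoeff_resTo`. -/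
theorem sum_blockCoeff_mul_one {b : Set (IrrCharacter N)} (hst : IsStab b T) (hNT : N ≤ T)
    {ψ : T → ℂ} (hψ : IsIrrCharacter T ψ) (s : T) :
    (∑ n : N, blockCoeff b n * ψ (s * ⟨n, hNT n.2⟩)) * ψ 1 =
      ψ s * ∑ n : N, blockCoeff b n * ψ ⟨n, hNT n.2⟩ := by
  refine sum_weight_mul_one hψ (Subgroup.inclusion hNT) (blockCoeff b)
    (fun h => (MulAut.conjNormal (h : G) : N ≃* N).toEquiv) (fun h n => ?_) (fun h n => ?_) s
  · apply Subtype.ext
    show (((MulAut.conjNormal (h : G) : N ≃* N) n : N) : G) = h * n * (h : G)⁻¹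
    rw [MulAut.conjNormal_apply]
  · exact hst.blockCoeff_conj h.2 n

theorem sum_blockCoeff_of_over {M : Ideal AlgInt} [M.IsPrime] {b : Set (IrrCharacter N)}
    (hst : IsStab b T) (hNT : N ≤ T) {ψ : T → ℂ} (hψ : IsIrrCharacter T ψ)
    {θ : IrrCharacter N} (hθ : θ ∈ b) (h : classInner (resTo hNT ψ) (θ : N → ℂ) ≠ 0) (s : T) :
    ∑ n : N, blockCoeff b n * ψ (s * ⟨n, hNT n.2⟩) = ψ s := by
  have h1 := (sum_blockCoeff_resTo hNT b hψ).1 (fun θ' hθ' => by
    obtain ⟨g, hg, rfl⟩ := over_conj hNT hψ h hθ'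
    exact (hst.mem_iff g).1 hg θ hθ)
  have h2 := sum_blockCoeff_mul_one hst hNT hψ s
  rw [h1] at h2
  exact mul_right_cancel₀ (isIrr_apply_one_ne_zero hψ) h2

theorem sum_blockCoeff_of_not_over {b : Set (IrrCharacter N)}
    (hst : IsStab b T) (hNT : N ≤ T) {ψ : T → ℂ} (hψ : IsIrrCharacter T ψ)
    (h : ∀ θ ∈ b, classInner (resTo hNT ψ) (θ : N → ℂ) = 0) (s : T) :
    ∑ n : N, blockCoeff b n * ψ (s * ⟨n, hNT n.2⟩) = 0 := by
  have h1 := (sum_blockCoeff_resTo hNT b hψ).2 (fun θ' hθ' hb => hθ' (h θ' hb))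
  have h2 := sum_blockCoeff_mul_one hst hNT hψ s
  rw [h1, mul_zero] at h2
  exact (mul_eq_zero.1 h2).resolve_right (isIrr_apply_one_ne_zero hψ)

end constituents

/-! ### Induced characters -/

section induced

variable {G : Type u} [Group G] [Fintype G] {N T : Subgroup G} [hN : N.Normal] [Fintype N]
  [Fintype T] {M : Ideal AlgInt} [M.IsPrime] {b : Set (IrrCharacter N)}

/-- Induction from `T` is irreducible on the characters over `b`. -/
theorem irr_ind (hb : IsPBlock M b) (hst : IsStab b T) (hNT : N ≤ T) {ψ : T → ℂ}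
    (hψ : IsIrrCharacter T ψ) {θ : IrrCharacter N} (hθ : θ ∈ b)
    (h : classInner (resTo hNT ψ) (θ : N → ℂ) ≠ 0) : IsIrrCharacter G (indFun T ψ) :=
  Cliff.irr_ind θ.2 (fun g hg => hst.inertia_le hb hθ g hg) hNT hψ h

/-- If `ψ` and `η` lie over `b` and `η` is a constituent of the restriction of `Ind ψ` then
`η = ψ`. -/
theorem eq_of_constituent (hb : IsPBlock M b) (hst : IsStab b T) (hNT : N ≤ T) {ψ η : T → ℂ}
    (hψ : IsIrrCharacter T ψ) (hη : IsIrrCharacter T η) {θ θ' : IrrCharacter N} (hθ : θ ∈ b)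
    (hθ' : θ' ∈ b) (h : classInner (resTo hNT ψ) (θ : N → ℂ) ≠ 0)
    (h' : classInner (resTo hNT η) (θ' : N → ℂ) ≠ 0)
    (hc : classInner (res T (indFun T ψ)) η ≠ 0) : η = ψ := by
  classical
  have h1 := irr_ind hb hst hNT hψ hθ h
  have h2 := irr_ind hb hst hNT hη hθ' h'
  have h3 : indFun T ψ = indFun T η := by
    by_contra hne
    apply hc
    rw [← classInner_indFun_right T η (isIrr_isClassFunction h1)]
    exact classInner_irr_ne h1 h2 hne
  have h4 : classInner (res T (indFun T ψ)) ψ ≠ 0 := by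
    rw [← classInner_indFun_right T ψ (isIrr_isClassFunction h1), classInner_irr_self h1]
    exact one_ne_zero
  have h5 : classInner (res N (indFun T ψ)) (θ : N → ℂ) ≠ 0 :=
    over_trans hNT (isIrr_isCharacter h1) hψ θ.2 h4 h
  have h6 : classInner (res N (indFun T ψ)) (θ' : N → ℂ) ≠ 0 :=
    over_trans hNT (isIrr_isCharacter h1) hη θ'.2 hc h'
  obtain ⟨g, hg⟩ := Cfsg.Agent.Characters.Clifford.exists_conj_of_constituents N h1 θ.2 θ'.2 h5 h6
  have h7 : θ' = conjIrr N g θ := Subtype.ext (by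
    rw [hg]
    funext n
    rw [conjIrr_apply]
    rfl)
  have h8 : g ∈ T := hst.mem_of_mem hb hθ (h7 ▸ hθ')
  have h9 : classInner (resTo hNT ψ) (θ' : N → ℂ) ≠ 0 := by
    rw [h7, classInner_conjIrr hNT (isIrr_isClassFunction hψ) h8]
    exact h
  exact (Cliff.ind_inj θ'.2 (fun g hg => hst.inertia_le hb hθ' g hg) hNT hψ hη h9 h' h3).symm

/-- The trace of `s ∈ T` on the `b`-part of the module affording `Ind ψ` is `ψ(s)`. -/
theorem sum_blockCoeff_ind (hb : IsPBlock M b) (hst : IsStab b T) (hNT : N ≤ T) {ψ : T → ℂ}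
    (hψ : IsIrrCharacter T ψ) {θ : IrrCharacter N} (hθ : θ ∈ b)
    (h : classInner (resTo hNT ψ) (θ : N → ℂ) ≠ 0) (s : T) :
    ∑ n : N, blockCoeff b n * indFun T ψ ((s : G) * n) = ψ s := by
  classical
  have := finite_irr (G := T)
  have := Fintype.ofFinite (IrrCharacter T)
  have h1 := irr_ind hb hst hNT hψ hθ h
  obtain ⟨m, hm⟩ := isCharacter_iff.1 (isCharacter_res T (isIrr_isCharacter h1))
  have hm' : ∀ η : IrrCharacter T, classInner (res T (indFun T ψ)) (η : T → ℂ) = m η := by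
    intro η
    rw [hm, classInner_sum_nsmul_irr]
  have hval : ∀ t : T, indFun T ψ (t : G) = ∑ η : IrrCharacter T, (m η : ℂ) * (η : T → ℂ) t := by
    intro t
    have := congrFun hm t
    rw [res_apply, Finset.sum_apply] at this
    rw [this]
    exact Finset.sum_congr rfl fun η _ => by rw [Pi.smul_apply, nsmul_eq_mul]
  have hself : m ⟨ψ, hψ⟩ = 1 := by
    have h2 := hm' ⟨ψ, hψ⟩
    rw [← classInner_indFun_right T ψ (isIrr_isClassFunction h1), classInner_irr_self h1] at h2
    exact_mod_cast h2.symm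
  calc ∑ n : N, blockCoeff b n * indFun T ψ ((s : G) * n)
      = ∑ n : N, ∑ η : IrrCharacter T,
          (m η : ℂ) * (blockCoeff b n * (η : T → ℂ) (s * ⟨n, hNT n.2⟩)) := by
        refine Finset.sum_congr rfl fun n _ => ?_
        have h2 := hval (s * ⟨n, hNT n.2⟩)
        have h3 : ((s * ⟨n, hNT n.2⟩ : T) : G) = (s : G) * n := rfl
        rw [h3] at h2
        rw [h2, Finset.mul_sum]
        exact Finset.sum_congr rfl fun η _ => by ring
    _ = ∑ η : IrrCharacter T,
          (m η : ℂ) * ∑ n : N, blockCoeff b n * (η : T → ℂ) (s * ⟨n, hNT n.2⟩) := by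
        rw [Finset.sum_comm]
        exact Finset.sum_congr rfl fun η _ => by rw [Finset.mul_sum]
    _ = (m ⟨ψ, hψ⟩ : ℂ) * ∑ n : N, blockCoeff b n * ψ (s * ⟨n, hNT n.2⟩) := by
        refine Finset.sum_eq_single (⟨ψ, hψ⟩ : IrrCharacter T) (fun η _ hη => ?_)
          (fun h => absurd (Finset.mem_univ _) h)
        by_cases h0 : m η = 0
        · rw [h0, Nat.cast_zero, zero_mul]
        · rw [sum_blockCoeff_of_not_over hst hNT η.2, mul_zero]
          intro θ' hθ'
          by_contra h4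
          apply hη
          exact Subtype.ext (eq_of_constituent hb hst hNT hψ η.2 hθ hθ' h h4
            (by rw [hm']; exact_mod_cast h0))
    _ = ψ s := by
        rw [hself, Nat.cast_one, one_mul]
        exact sum_blockCoeff_of_over (M := M) hst hNT hψ hθ h s

/-- The twist of a class function `F` on `T` by the block idempotent of `b`. -/
noncomputable def twist (hNT : N ≤ T) (b : Set (IrrCharacter N)) (F : T → ℂ) (t : T) : ℂ :=
  ∑ n : N, F (t * (⟨n, hNT n.2⟩ : T)⁻¹) * blockCoeff b n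

omit [Fintype T] in
theorem isClassFunction_twist (hst : IsStab b T) (hNT : N ≤ T) {F : T → ℂ}
    (hF : IsClassFunction T F) : IsClassFunction T (twist hNT b F) := by
  intro t s
  unfold twist
  refine Fintype.sum_equiv (MulAut.conjNormal (s : G)⁻¹ : N ≃* N).toEquiv _ _ fun n => ?_
  have h1 : blockCoeff b ((MulAut.conjNormal (s : G)⁻¹ : N ≃* N).toEquiv n) = blockCoeff b n :=
    hst.blockCoeff_conj (T.inv_mem s.2) n
  rw [h1]
  congr 1
  rw [← hF (t * _) s]
  congr 1
  have h2 : (⟨((MulAut.conjNormal (s : G)⁻¹ : N ≃* N).toEquiv n : N),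
      hNT ((MulAut.conjNormal (s : G)⁻¹ : N ≃* N).toEquiv n).2⟩ : T) =
      s⁻¹ * ⟨n, hNT n.2⟩ * s := by
    apply Subtype.ext
    show (((MulAut.conjNormal (s : G)⁻¹ : N ≃* N) n : N) : G) = (s : G)⁻¹ * n * s
    rw [MulAut.conjNormal_apply, inv_inv]
  rw [h2]
  group

/-- The central character of `ψ` in terms of the values of `Ind ψ`. -/
theorem sum_twist (hb : IsPBlock M b) (hst : IsStab b T) (hNT : N ≤ T) {ψ : T → ℂ}
    (hψ : IsIrrCharacter T ψ) {θ : IrrCharacter N} (hθ : θ ∈ b)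
    (h : classInner (resTo hNT ψ) (θ : N → ℂ) ≠ 0) (F : T → ℂ) :
    ∑ t : T, F t * ψ t = ∑ t : T, twist hNT b F t * indFun T ψ (t : G) := by
  calc ∑ t : T, F t * ψ t
      = ∑ t : T, ∑ n : N, F t * (blockCoeff b n * indFun T ψ ((t : G) * n)) := by
        refine Finset.sum_congr rfl fun t _ => ?_
        rw [← Finset.mul_sum, sum_blockCoeff_ind hb hst hNT hψ hθ h]
    _ = ∑ n : N, ∑ t : T, F t * (blockCoeff b n * indFun T ψ ((t : G) * n)) := Finset.sum_comm
    _ = ∑ n : N, ∑ t : T, F (t * (⟨n, hNT n.2⟩ : T)⁻¹) *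
          (blockCoeff b n * indFun T ψ (t : G)) := by
        refine Finset.sum_congr rfl fun n _ => ?_
        refine Fintype.sum_equiv (Equiv.mulRight (⟨n, hNT n.2⟩ : T)) _ _ fun t => ?_
        simp only [Equiv.coe_mulRight, mul_inv_cancel_right]
        rfl
    _ = _ := by
        rw [Finset.sum_comm]
        refine Finset.sum_congr rfl fun t _ => ?_
        unfold twist
        rw [Finset.sum_mul]
        exact Finset.sum_congr rfl fun n _ => by ring

/-- Indices of centralizers in `T` and in `G`. -/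
theorem exists_index_eq (T : Subgroup G) (t : T) :
    ∃ r : ℕ, (Subgroup.centralizer ({t} : Set T)).index * T.index =
      r * (Subgroup.centralizer ({(t : G)} : Set G)).index := by
  set C := (Subgroup.centralizer ({t} : Set T)).map T.subtype with hC
  have h1 : C ≤ T := Subgroup.map_subtype_le _
  have h2 : C ≤ Subgroup.centralizer ({(t : G)} : Set G) := by
    rintro _ ⟨x, hx, rfl⟩
    rw [Subgroup.mem_centralizer_singleton_iff]
    exact congrArg (fun y : T => (y : G)) (Subgroup.mem_centralizer_singleton_iff.1 hx)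
  refine ⟨C.relIndex (Subgroup.centralizer ({(t : G)} : Set G)), ?_⟩
  rw [Subgroup.relIndex_mul_index h2, ← Subgroup.relIndex_mul_index h1]
  congr 1
  rw [hC, Subgroup.relIndex, Subgroup.subgroupOf,
    Subgroup.comap_map_eq_self_of_injective T.subtype_injective]

/-- A class function with local-integral values, paired with `Ind ψ`. -/
theorem exists_sum_eq (T : Subgroup G) [Fintype T] {p : ℕ} (hM : IsPModular p M) {c : T → ℂ}
    (hc : IsClassFunction T c) (hcR : ∀ t, MemLocalRing M (c t)) :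
    ∃ (ι : Type u) (_ : Fintype ι) (r : ι → ℂ) (x : ι → G), (∀ i, MemLocalRing M (r i)) ∧
      ∀ ψ : T → ℂ, IsIrrCharacter T ψ → IsIrrCharacter G (indFun T ψ) →
        (∑ t : T, c t * indFun T ψ (t : G)) / ψ 1 = ∑ i, r i * centralChar (indFun T ψ) (x i) := by
  classical
  have := Fintype.ofFinite (ConjClasses T)
  choose r hr using fun K : ConjClasses T => exists_index_eq T K.out
  refine ⟨ConjClasses T, inferInstance, fun K => c K.out * (r K : ℂ), fun K => (K.out : T),
    fun K => Blocks.Local.memLocalRing_mul (hcR _) (Blocks.Local.memLocalRing_natCast _), ?_⟩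
  intro ψ hψ hχ
  have hcl : IsClassFunction T (fun t : T => c t * indFun T ψ (t : G)) := by
    intro g h
    show c (h * g * h⁻¹) * indFun T ψ ((h : G) * g * (h : G)⁻¹) = c g * indFun T ψ (g : G)
    rw [hc g h, isIrr_isClassFunction hχ (g : G) (h : G)]
  rw [Blocks.Fong.sum_eq_sum_conjClasses hcl, Finset.sum_div]
  refine Finset.sum_congr rfl fun K _ => ?_
  rw [Blocks.Basic.centralChar_def]
  have h1 : indFun T ψ 1 = (T.index : ℂ) * ψ 1 := indFun_apply_one T ψ
  rw [h1]
  have h2 : ψ 1 ≠ 0 := isIrr_apply_one_ne_zero hψ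
  have h3 : (T.index : ℂ) ≠ 0 := by exact_mod_cast Subgroup.index_ne_zero_of_finite
  have h4 : ((Subgroup.centralizer ({K.out} : Set T)).index : ℂ) * (T.index : ℂ) =
      (r K : ℂ) * ((Subgroup.centralizer ({((K.out : T) : G)} : Set G)).index : ℂ) := by
    exact_mod_cast hr K
  field_simp
  linear_combination (c K.out * indFun T ψ ((K.out : T) : G)) * h4

/-- **Injectivity of the Fong–Reynolds correspondence.** -/
theorem sameBlock_of_ind (p : ℕ) [Fact p.Prime] (hM : IsPModular p M) (hb : IsPBlock M b)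
    (hst : IsStab b T) (hNT : N ≤ T) {ψ₁ ψ₂ : T → ℂ} (hψ₁ : IsIrrCharacter T ψ₁)
    (hψ₂ : IsIrrCharacter T ψ₂) {θ₁ θ₂ : IrrCharacter N} (hθ₁ : θ₁ ∈ b) (hθ₂ : θ₂ ∈ b)
    (h₁ : classInner (resTo hNT ψ₁) (θ₁ : N → ℂ) ≠ 0)
    (h₂ : classInner (resTo hNT ψ₂) (θ₂ : N → ℂ) ≠ 0)
    (h : SameBlock M (indFun T ψ₁) (indFun T ψ₂)) : SameBlock M ψ₁ ψ₂ := by
  classical
  intro t
  have hF : IsClassFunction T (Blocks.Elementary.cls t) := Blocks.Elementary.isClassFunction_cls t
  have hcR : ∀ s, MemLocalRing M (twist hNT b (Blocks.Elementary.cls t) s) := by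
    intro s
    refine Blocks.Local.memLocalRing_sum fun n _ => Blocks.Local.memLocalRing_mul ?_
      (Cfsg.Agent.S0913.result p M hM b hb n)
    rw [Blocks.Elementary.cls_def]
    split_ifs
    · exact Blocks.Local.memLocalRing_one
    · exact Blocks.Local.memLocalRing_zero
  obtain ⟨ι, _, r, x, hr, hsum⟩ := exists_sum_eq T hM (isClassFunction_twist hst hNT hF) hcR
  have key : ∀ {ψ : T → ℂ} (hψ : IsIrrCharacter T ψ) {θ : IrrCharacter N} (hθ : θ ∈ b)
      (h0 : classInner (resTo hNT ψ) (θ : N → ℂ) ≠ 0),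
      centralChar ψ t = ∑ i, r i * centralChar (indFun T ψ) (x i) := by
    intro ψ hψ θ hθ h0
    rw [← hsum ψ hψ (irr_ind hb hst hNT hψ hθ h0), ← sum_twist hb hst hNT hψ hθ h0,
      ← Blocks.Elementary.om_cls hψ, Blocks.Elementary.om_def]
  rw [key hψ₁ hθ₁ h₁, key hψ₂ hθ₂ h₂, ← Finset.sum_sub_distrib]
  refine Blocks.Local.memLocalIdeal_sum fun i _ => ?_
  rw [← mul_sub]
  exact Blocks.Local.memLocalIdeal_mul_left (hr i) (h (x i))

end induced

end Cfsg.Agent.H591.Reynolds
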